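import Cfsg.Agent.Lib.Spor.Ly.RadicalIndex.Part0
import Cfsg.Agent.Lib.Spor.Ly.RadicalIndex.Part1
import Cfsg.Agent.Lib.Spor.Ly.RadicalIndex.Part2
import Cfsg.Agent.Lib.Spor.Ly.RadicalIndex.Part3
import Cfsg.Agent.Lib.Spor.Ly.RadicalIndex.Part4

/-!
The index of ⟨a, b⟩ in ⟨a, b, c⟩: the assembled checks.
-/

set_option autoImplicit false

namespace CfsgLib.Spor.Ly.RadicalIndex

open CfsgLib.Spor.TC

theorem steps_ok : cert.SStepsOK 0 16138 :=
  ((((((steps0.append _ steps3264).append _ steps6316).append _ steps8916).append _ steps11422).append _ steps13802).append _ steps16036)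

theorem rows_ok : cert.SRowsOK 16138 3125 0 3125 :=
  ((rows0.append _ rows1250).append _ rows2500)

theorem row_zero : cert.rowNode 0 = 0 := by decide +kernel

end CfsgLib.Spor.Ly.RadicalIndex
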